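import Groth.Agent.S1177
import Groth.Agent.S7797
import Groth.Agent.S11133
import Groth.Agent.ParaFLib.Ext
import Groth.Agent.FpqcPCLib.Main
import Groth.Agent.AmpleDevLib.Pull
import Groth.Agent.PerfFibreLib.Single
import Groth.Agent.QCohLib.Push

/-!
# Parafactoriality descends along flat quasi-compact surjective morphisms
-/

set_option autoImplicit false
set_option linter.style.haveILetI false

universe u

open CategoryTheory CategoryTheory.Limits AlgebraicGeometry TopologicalSpace Opposite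
open AmpleLib ParaFLib

noncomputable section

namespace ParaFDescLib

variable {X X' : Scheme.{u}}

theorem invertible_iff_rankOne (M : X.Modules) : PicF.IsInvertible M ↔ FlatMod.IsFinLocFreeOfRank 1 M :=
  forall_congr' fun y => exists_congr fun U => and_congr_right fun _ => by
    have e : FlatMod.freeMod (↑U) 1 ≅ Coh.structureModule (↑U) :=
      Limits.coproductUniqueIso fun _ : Fin 1 => Coh.structureModule (↑U)
    exact ⟨fun ⟨a⟩ => ⟨a ≪≫ e.symm⟩, fun ⟨a⟩ => ⟨a ≪≫ e⟩⟩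

theorem isInvertible_congr {M N : X.Modules} (e : M ≅ N) (h : PicF.IsInvertible M) : PicF.IsInvertible N :=
  fun x => by
    obtain ⟨W, hW, ⟨a⟩⟩ := h x
    exact ⟨W, hW, ⟨((Scheme.Modules.restrictFunctor W.ι).mapIso e).symm ≪≫ a⟩⟩

/-- Invertibility descends. -/
theorem isInvertible_of_pullback (f : X' ⟶ X) [QuasiCompact f] [Flat f] [Surjective f] (M : X.Modules)
    [Coh.IsQCoh M] (h : PicF.IsInvertible ((Scheme.Modules.pullback f).obj M)) : PicF.IsInvertible M := by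
  have h' := (invertible_iff_rankOne _).1 h
  have hfree := Groth.Agent.S1177.result f M fun x' => by
    obtain ⟨W, hW, e⟩ := h' x'
    exact ⟨W, 1, hW, e⟩
  refine (invertible_iff_rankOne _).2 fun x => ?_
  obtain ⟨U, n, hx, ⟨e⟩⟩ := hfree x
  obtain ⟨x', rfl⟩ := f.surjective x
  obtain ⟨W, hW, ⟨e'⟩⟩ := h' x'
  let g : Spec (X'.residueField x') ⟶ X' := X'.fromSpecResidueField x'
  have hg : ∀ z, g z = x' := fun z => by
    have : g z ∈ Set.range g := ⟨z, rfl⟩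
    rwa [Scheme.range_fromSpecResidueField, Set.mem_singleton_iff] at this
  have h1 := Groth.Agent.PerfFibreLib.topRank_pullback (X'.residueField x') (g ≫ f) M U n e fun z => by
    show f (g z) ∈ U
    rw [hg]; exact hx
  have h2 := Groth.Agent.PerfFibreLib.topRank_pullback (X'.residueField x') g _ W 1 e' fun z => by
    rw [hg]; exact hW
  rw [← Groth.Agent.PerfFibreLib.topRank_iso ((Scheme.Modules.pullbackComp g f).app M)] at h1
  obtain rfl : n = 1 := h1.symm.trans h2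
  exact ⟨U, hx, ⟨e⟩⟩

theorem app_injective_of_flat (f : X' ⟶ X) [Flat f] [Surjective f] (T : X.Opens) :
    Function.Injective (f.app T) := by
  refine (injective_iff_map_eq_zero _).2 fun a ha => TopCat.Presheaf.section_ext X.sheaf T a 0 fun x hx => ?_
  obtain ⟨x', rfl⟩ := f.surjective x
  letI := (f.stalkMap x').hom.toAlgebra
  haveI := FpqcPCLib.ff_stalkMap f x'
  refine FaithfulSMul.algebraMap_injective (X.presheaf.stalk (f x')) (X'.presheaf.stalk x') ?_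
  show f.stalkMap x' (X.presheaf.germ T (f x') hx a) = f.stalkMap x' (X.presheaf.germ T (f x') hx 0)
  rw [Scheme.Hom.germ_stalkMap_apply, ha, map_zero, map_zero, map_zero]

theorem isUnit_of_app (f : X' ⟶ X) [Surjective f] (T : X.Opens) (a : Γ(X, T)) (h : IsUnit (f.app T a)) :
    IsUnit a := by
  refine RingedSpace.isUnit_of_isUnit_germ X.toLocallyRingedSpace.toRingedSpace T a fun x hx => ?_
  obtain ⟨x', rfl⟩ := f.surjective x
  refine (isUnit_map_iff (f.stalkMap x').hom _).1 ?_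
  show IsUnit (f.stalkMap x' (X.presheaf.germ T (f x') hx a))
  rw [Scheme.Hom.germ_stalkMap_apply]
  exact h.map _

theorem app_eq_zero_congr {A B : Scheme.{u}} {p q : A ⟶ B} (e : p = q) (T : B.Opens) (a : Γ(B, T))
    (h : q.app T a = 0) : p.app T a = 0 := by
  subst e; exact h

theorem isUnit_app_congr {A B : Scheme.{u}} {p q : A ⟶ B} (e : p = q) (T : B.Opens) (a : Γ(B, T))
    (h : IsUnit (q.app T a)) : IsUnit (p.app T a) := by
  subst e; exact h

variable (f : X' ⟶ X) [QuasiCompact f] [Flat f] [Surjective f] (U : X.Opens) [QuasiCompact U.ι]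

/-- A generator of `j_* L'` upstairs from `Extends`. -/
theorem isInvertible_push_of {U' : X'.Opens} (h0 : H0 U') (he : Extends U') {L : (U' : Scheme.{u}).Modules}
    (hL : PicF.IsInvertible L) : PicF.IsInvertible ((Scheme.Modules.pushforward U'.ι).obj L) := by
  have hb := bijective_app_of_h0 U'.ι (by rwa [Scheme.Opens.opensRange_ι])
  choose O hxO hOV σ hσ using fun x : X' => he ((Scheme.Modules.pushforward U'.ι).obj L) ⊤
    (fun y hy => invOn_push U' hL y hy.2 |>.imp fun O h => ⟨h.1, h.2.1.trans (le_inf le_top le_rfl), h.2.2⟩)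
    x trivial
  let c := asIso ((Scheme.Modules.restrictAdjunction U'.ι).counit.app L)
  have hle : ∀ x, U'.ι ''ᵁ (U'.ι ⁻¹ᵁ O x) ≤ O x ⊓ U' := fun x => by
    rintro _ ⟨y, hy, rfl⟩
    exact ⟨hy, y.2⟩
  exact TwistLib.isInvertible_of_genOn O (fun x => ⟨x, hxO x⟩) _
    fun x => genOn_push U'.ι hb (W := O x) (genOn_iso c ((hσ x).restrict U'.ι (U'.ι ⁻¹ᵁ O x) (hle x)))

variable (h0 : H0 (f ⁻¹ᵁ U)) (he : Extends (f ⁻¹ᵁ U))

include h0 he in
theorem isInvertible_push {L : (U : Scheme.{u}).Modules} (hL : PicF.IsInvertible L) :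
    PicF.IsInvertible ((Scheme.Modules.pushforward U.ι).obj L) := by
  haveI : Coh.IsQCoh L := TwistLib.isQCoh_of_isInvertible hL
  haveI : Coh.IsQCoh ((Scheme.Modules.pushforward U.ι).obj L) := QCohLib.isQCoh_pushforward _ L
  haveI := Groth.Agent.S11133.result U.ι f (f ∣_ U) (f ⁻¹ᵁ U).ι (isPullback_morphismRestrict f U) L
  refine isInvertible_of_pullback f _ ?_
  exact isInvertible_congr (@asIso _ _ _ _ _ this).symm
    (isInvertible_push_of h0 he (AmpleDevLib.isInvertible_pb (f ∣_ U) hL))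

include h0 he in
theorem h0_descent : H0 U := by
  refine fun T => resBij_of_local (M := Coh.structureModule X) (fun x => ?_) T
  obtain ⟨O, σ, hxO, hσ⟩ := TwistLib.exists_genOn
    (isInvertible_push f U h0 he (CurvLib.isInvertible_structureModule (X := (U : Scheme.{u})))) x
  refine ⟨O, hxO, fun S hS => ?_⟩
  have hb := bijective_app_of_h0 (f ⁻¹ᵁ U).ι (by rwa [Scheme.Opens.opensRange_ι]) (f ⁻¹ᵁ S)
  have hsq : (f ⁻¹ᵁ U).ι ≫ f = (f ∣_ U) ≫ U.ι := (morphismRestrict_ι f U).symm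
  have hinj : Function.Injective (U.ι.app S) := (injective_iff_map_eq_zero _).2 fun a ha => by
    have h1 : ((f ∣_ U) ≫ U.ι).app S a = 0 := by
      show (f ∣_ U).app _ (U.ι.app S a) = 0
      rw [ha, map_zero]
    have h2 : (f ⁻¹ᵁ U).ι.app (f ⁻¹ᵁ S) (f.app S a) = 0 := app_eq_zero_congr hsq S a h1
    apply app_injective_of_flat f S
    rw [map_zero]
    exact hb.1 (h2.trans (map_zero _).symm)
  let σS : Γ((U : Scheme.{u}), U.ι ⁻¹ᵁ S) := res ((Scheme.Modules.pushforward U.ι).obj (Coh.structureModule _)) hS σ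
  have hgen : ∀ b : Γ((U : Scheme.{u}), U.ι ⁻¹ᵁ S), ∃ r, U.ι.app S r * σS = b := fun b =>
    ((hσ S hS).2 b)
  obtain ⟨a₀, ha₀⟩ := hgen 1
  have hu : IsUnit a₀ := by
    refine isUnit_of_app f S a₀ ?_
    have h1 : IsUnit (((f ∣_ U) ≫ U.ι).app S a₀) := (IsUnit.of_mul_eq_one _ ha₀).map ((f ∣_ U).app (U.ι ⁻¹ᵁ S)).hom
    have h2 : IsUnit ((f ⁻¹ᵁ U).ι.app (f ⁻¹ᵁ S) (f.app S a₀)) := isUnit_app_congr hsq S a₀ h1
    obtain ⟨d, hd⟩ := hb.2 ↑h2.unit⁻¹
    refine IsUnit.of_mul_eq_one d (hb.1 ?_)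
    rw [map_mul, hd, map_one]
    exact h2.mul_val_inv
  have hbij : Function.Bijective (U.ι.app S) := by
    refine ⟨hinj, fun b => ?_⟩
    obtain ⟨r, hr⟩ := hgen b
    refine ⟨r * ↑hu.unit⁻¹, ?_⟩
    rw [map_mul, ← hr]
    congr 1
    have h3 : U.ι.app S a₀ * U.ι.app S ↑hu.unit⁻¹ = 1 := by rw [← map_mul, hu.mul_val_inv, map_one]
    calc U.ι.app S ↑hu.unit⁻¹ = (U.ι.app S a₀ * σS) * U.ι.app S ↑hu.unit⁻¹ := by rw [ha₀, one_mul]
      _ = σS := by rw [mul_comm (U.ι.app S a₀) σS, mul_assoc, h3, mul_one]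
  have e : S ⊓ U = U.ι ''ᵁ (U.ι ⁻¹ᵁ S) := by
    rw [Scheme.Hom.image_preimage_eq_opensRange_inf, Scheme.Opens.opensRange_ι, inf_comm]
  have h1 : Function.Bijective (X.presheaf.map (homOfLE (U.ι.image_preimage_le S)).op) := by
    rw [show X.presheaf.map (homOfLE (U.ι.image_preimage_le S)).op =
      U.ι.app S ≫ (U.ι.appIso (U.ι ⁻¹ᵁ S)).inv from (U.ι.app_appIso_inv S).symm]
    exact (ConcreteCategory.bijective_of_isIso (U.ι.appIso (U.ι ⁻¹ᵁ S)).inv).comp hbij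
  exact bijective_map_congr e.symm (U.ι.image_preimage_le S) inf_le_left h1

theorem exists_gen_of_push {Z : Scheme.{u}} (A : Z.Opens) (N : Z.Modules) {O' : Z.Opens}
    {τ : Γ((Scheme.Modules.pushforward A.ι).obj (N.restrict A.ι), O')}
    (hτ : GenOn ((Scheme.Modules.pushforward A.ι).obj (N.restrict A.ι)) τ) :
    ∃ σ : Γ(N, A.ι ''ᵁ (A.ι ⁻¹ᵁ O')), GenOn N σ := by
  let c := asIso ((Scheme.Modules.restrictAdjunction A.ι).counit.app (N.restrict A.ι))
  have h1 := hτ.restrict A.ι (A.ι ⁻¹ᵁ O') (A.ι.image_preimage_le O')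
  have h2 := genOn_iso c h1
  exact ⟨_, Ref1Lib.genOn_of_restrict h2⟩

include h0 he in
theorem extends_descent : Extends U := by
  intro M V hM x hx
  let A : (V : Scheme.{u}).Opens := V.ι ⁻¹ᵁ U
  haveI : QuasiCompact A.ι := MorphismProperty.of_isPullback (isPullback_morphismRestrict V.ι U) ‹QuasiCompact U.ι›
  have hpre : (f ∣_ V) ⁻¹ᵁ A = (f ⁻¹ᵁ V).ι ⁻¹ᵁ (f ⁻¹ᵁ U) := by
    show ((f ∣_ V) ≫ V.ι) ⁻¹ᵁ U = ((f ⁻¹ᵁ V).ι ≫ f) ⁻¹ᵁ U
    rw [morphismRestrict_ι]
  have hA := isInvertible_restrict_of_invOn (M := M.restrict V.ι) (A := A) fun z hz => by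
    obtain ⟨O, hzO, hO, g, hg⟩ := hM (V.ι z) ⟨z.2, hz⟩
    exact ⟨V.ι ⁻¹ᵁ O, hzO, fun w hw => (hO hw).2, _, hg.restrict V.ι _ (V.ι.image_preimage_le O)⟩
  haveI : Surjective (f ∣_ V) :=
    MorphismProperty.of_isPullback (isPullback_morphismRestrict f V).flip ‹Surjective f›
  have h0V : H0 ((f ∣_ V) ⁻¹ᵁ A) := by rw [hpre]; exact h0_preimage h0 (f ⁻¹ᵁ V)
  have heV : Extends ((f ∣_ V) ⁻¹ᵁ A) := by rw [hpre]; exact extends_preimage he (f ⁻¹ᵁ V)
  obtain ⟨O', τ, hxO', hτ⟩ := TwistLib.exists_genOn (isInvertible_push (f ∣_ V) A h0V heV hA) (⟨x, hx⟩ : V)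
  obtain ⟨σ', hσ'⟩ := exists_gen_of_push A (M.restrict V.ι) hτ
  have hle : V.ι ''ᵁ O' ⊓ U ≤ V.ι ''ᵁ (A.ι ''ᵁ (A.ι ⁻¹ᵁ O')) := by
    rintro _ ⟨⟨v, hv, rfl⟩, hvU⟩
    exact ⟨v, ⟨⟨v, hvU⟩, hv, rfl⟩, rfl⟩
  refine ⟨V.ι ''ᵁ O', ⟨⟨x, hx⟩, hxO', rfl⟩, fun _ ⟨v, _, e⟩ => e ▸ v.2, ?_⟩
  have h3 := Ref1Lib.genOn_of_restrict hσ'
  exact ⟨_, h3.res hle⟩

theorem isParafactorialPair_descent {X X' : Scheme.{u}} (f : X' ⟶ X) [QuasiCompact f] [Flat f] [Surjective f]
    (Y : Closeds ↥X) (hU : QuasiCompact (X.homOfLE (le_top : Y.compl ≤ ⊤)))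
    (h : ParaF.IsParafactorialPair X' (ParaF.closedsPreimage f Y)) : ParaF.IsParafactorialPair X Y := by
  haveI : QuasiCompact (Scheme.Opens.ι Y.compl) := by
    rw [← X.homOfLE_ι (le_top : Y.compl ≤ ⊤)]
    haveI : IsIso (Scheme.Opens.ι (⊤ : X.Opens)) := X.topIso.isIso_hom
    exact MorphismProperty.comp_mem _ _ _ hU inferInstance
  have e : (ParaF.closedsPreimage f Y).compl = f ⁻¹ᵁ Y.compl := rfl
  obtain ⟨h0, he⟩ := (pair_iff _).1 h
  rw [e] at h0 he
  exact (pair_iff Y).2 ⟨h0_descent f Y.compl h0 he, extends_descent f Y.compl h0 he⟩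

end ParaFDescLib
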